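import Groth.Agent.EtLimit.Nbhd
import Groth.Agent.EtaleSite.SH
import Groth.Agent.Hens.StrictAtPrime
import Groth.Agent.Hens.Unique
import Mathlib.FieldTheory.SeparableClosure

/-!
Maps from spectra of strictly henselian rings into strict localisations and étale schemes.
-/

set_option autoImplicit false
set_option linter.style.haveILetI false
set_option backward.isDefEq.respectTransparency.types false

universe u

open CategoryTheory CategoryTheory.Limits AlgebraicGeometry Opposite

namespace Groth.Agent.StrictLift

/-- The closed point of the spectrum of a local ring. -/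
noncomputable abbrev closedPt (R : Type u) [CommRing R] [IsLocalRing R] :
    Spec (CommRingCat.of (IsLocalRing.ResidueField R)) ⟶ Spec (CommRingCat.of R) :=
  Spec.map (CommRingCat.ofHom (IsLocalRing.residue R))

theorem closedPt_apply (R : Type u) [CommRing R] [IsLocalRing R]
    (o : Spec (CommRingCat.of (IsLocalRing.ResidueField R))) : closedPt R o = IsLocalRing.closedPoint R := by
  refine PrimeSpectrum.ext ?_
  have : (o : PrimeSpectrum (IsLocalRing.ResidueField R)).asIdeal = ⊥ :=
    (Ideal.eq_bot_or_top _).resolve_right (o : PrimeSpectrum (IsLocalRing.ResidueField R)).isPrime.ne_top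
  show Ideal.comap (IsLocalRing.residue R) (o : PrimeSpectrum (IsLocalRing.ResidueField R)).asIdeal =
    IsLocalRing.maximalIdeal R
  rw [this, ← RingHom.ker_eq_comap_bot, IsLocalRing.ker_residue]

/-- Maps from a local scheme into an unramified scheme are determined by the closed point. -/
theorem eq_of_closedPt {U S : Scheme.{u}} (p : U ⟶ S) [IsOpenImmersion (pullback.diagonal p)]
    {R : Type u} [CommRing R] [IsLocalRing R] (a b : Spec (CommRingCat.of R) ⟶ U) (w : a ≫ p = b ≫ p)
    (h : closedPt R ≫ a = closedPt R ≫ b) : a = b := by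
  let t : Spec (CommRingCat.of R) ⟶ pullback p p := pullback.lift a b w
  have hr : Set.range t ⊆ Set.range (pullback.diagonal p) := by
    rintro _ ⟨x, rfl⟩
    have hc : t (IsLocalRing.closedPoint R) ∈ Set.range (pullback.diagonal p) := by
      obtain ⟨o⟩ : Nonempty ↥(Spec (CommRingCat.of (IsLocalRing.ResidueField R))) :=
        inferInstanceAs (Nonempty (PrimeSpectrum (IsLocalRing.ResidueField R)))
      refine ⟨(closedPt R ≫ a) o, ?_⟩
      have e : closedPt R ≫ t = (closedPt R ≫ a) ≫ pullback.diagonal p := by
        apply pullback.hom_ext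
        · rw [Category.assoc, pullback.lift_fst, Category.assoc, pullback.diagonal_fst, Category.comp_id]
        · rw [Category.assoc, pullback.lift_snd, Category.assoc, pullback.diagonal_snd, Category.comp_id, h]
      rw [← Scheme.Hom.comp_apply, ← e, Scheme.Hom.comp_apply, closedPt_apply]
    exact ((IsLocalRing.specializes_closedPoint x).map t.continuous).mem_open
      (pullback.diagonal p).isOpenEmbedding.isOpen_range hc
  have e := IsOpenImmersion.lift_fac (pullback.diagonal p) t hr
  have e₁ : IsOpenImmersion.lift (pullback.diagonal p) t hr = a := by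
    have h1 := congrArg (· ≫ pullback.fst p p) e
    simp only [Category.assoc, pullback.diagonal_fst] at h1
    exact (Category.comp_id _).symm.trans (h1.trans (pullback.lift_fst _ _ _))
  have e₂ : IsOpenImmersion.lift (pullback.diagonal p) t hr = b := by
    have h1 := congrArg (· ≫ pullback.snd p p) e
    simp only [Category.assoc, pullback.diagonal_snd] at h1
    exact (Category.comp_id _).symm.trans (h1.trans (pullback.lift_snd _ _ _))
  exact e₁.symm.trans e₂

/-- Lifting to an étale scheme. -/
theorem exists_lift {U S : Scheme.{u}} (p : U ⟶ S) [Etale p] {R : Type u} [CommRing R] [HenselianLocalRing R]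
    (σ : Spec (CommRingCat.of R) ⟶ S) (φ : Spec (CommRingCat.of (IsLocalRing.ResidueField R)) ⟶ U)
    (w : φ ≫ p = closedPt R ≫ σ) :
    ∃ s : Spec (CommRingCat.of R) ⟶ U, s ≫ p = σ ∧ closedPt R ≫ s = φ := by
  haveI : Etale (pullback.snd p σ) := MorphismProperty.pullback_snd _ _ ‹Etale p›
  obtain ⟨s, hs, hs'⟩ := EtaleSite.exists_section R (pullback.snd p σ) (pullback.lift φ (closedPt R) w)
    (pullback.lift_snd _ _ _)
  refine ⟨s ≫ pullback.fst p σ, ?_, ?_⟩
  · rw [Category.assoc, pullback.condition, reassoc_of% hs]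
  · exact (Category.assoc _ _ _).symm.trans ((congrArg (· ≫ pullback.fst p σ) hs').trans (pullback.lift_fst _ _ _))

variable {S : Scheme.{u}} {T : Scheme.{u}} {σ : T ⟶ S} (P : EtLimit.EtPres σ)
  {R' : Type u} [CommRing R']

include P in
theorem eq_of_closedPt_pres [IsLocalRing R'] (g₁ g₂ : Spec (CommRingCat.of R') ⟶ T) (w : g₁ ≫ σ = g₂ ≫ σ)
    (h : closedPt R' ≫ g₁ = closedPt R' ≫ g₂) : g₁ = g₂ := by
  letI := P.cat
  refine P.isLimit.hom_ext fun i => ?_
  haveI := P.etale i
  refine eq_of_closedPt (P.p i) _ _ ?_ ?_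
  · show (g₁ ≫ P.π.app i) ≫ P.p i = (g₂ ≫ P.π.app i) ≫ P.p i
    rw [Category.assoc, Category.assoc, P.fac, w]
  · show closedPt R' ≫ g₁ ≫ P.π.app i = closedPt R' ≫ g₂ ≫ P.π.app i
    rw [← Category.assoc, h, Category.assoc]

include P in
theorem exists_lift_pres [HenselianLocalRing R'] (τ : Spec (CommRingCat.of R') ⟶ S)
    (h : Spec (CommRingCat.of (IsLocalRing.ResidueField R')) ⟶ T) (w : h ≫ σ = closedPt R' ≫ τ) :
    ∃ g : Spec (CommRingCat.of R') ⟶ T, g ≫ σ = τ ∧ closedPt R' ≫ g = h := by
  letI := P.cat
  have hl : ∀ i, ∃ s : Spec (CommRingCat.of R') ⟶ P.D.obj i, s ≫ P.p i = τ ∧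
      closedPt R' ≫ s = h ≫ P.π.app i := fun i => by
    haveI := P.etale i
    exact exists_lift (P.p i) τ (h ≫ P.π.app i) (by rw [Category.assoc, P.fac, w])
  choose s hs hs' using hl
  let c : Cone P.D := Cone.mk (Spec (CommRingCat.of R'))
    { app := s
      naturality := fun i j a => by
        haveI := P.etale j
        show 𝟙 _ ≫ s j = s i ≫ P.D.map a
        rw [Category.id_comp]
        refine eq_of_closedPt (P.p j) _ _ (by rw [Category.assoc, P.w, hs, hs]) ?_
        rw [reassoc_of% (hs' i), hs']
        have := P.π.naturality a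
        simp only [Functor.const_obj_map, Category.id_comp] at this
        exact congrArg (h ≫ ·) this }
  refine ⟨P.isLimit.lift c, ?_, ?_⟩
  · obtain ⟨i⟩ : Nonempty P.I := P.cofiltered.nonempty
    exact (congrArg (P.isLimit.lift c ≫ ·) (P.fac i).symm).trans ((Category.assoc _ _ _).symm.trans
      ((congrArg (· ≫ P.p i) (P.isLimit.fac c i)).trans (hs i)))
  · refine P.isLimit.hom_ext fun i => ?_
    show (closedPt R' ≫ P.isLimit.lift c) ≫ P.π.app i = h ≫ P.π.app i
    rw [Category.assoc]
    exact (congrArg (closedPt R' ≫ ·) (P.isLimit.fac c i)).trans (hs' i)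

open IsLocalRing in
/-- Maps to separably closed fields extend to strict henselisations. -/
theorem exists_extend {L R : Type u} [CommRing L] [IsLocalRing L] [CommRing R] [IsLocalRing R] [Algebra L R]
    [IsLocalHom (algebraMap L R)] [Hensel.IsStrictHenselization L R] {Ω : Type u} [Field Ω] [IsSepClosed Ω]
    (ν : L →+* Ω) : ∃ μ : R →+* Ω, μ.comp (algebraMap L R) = ν := by
  haveI := Hens.faithfullyFlat_of_isStrictHenselization (R := L) R
  let q : Ideal L := RingHom.ker ν
  haveI : q.IsPrime := RingHom.ker_isPrime ν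
  obtain ⟨⟨P, hP⟩, hPq⟩ := PrimeSpectrum.comap_surjective_of_faithfullyFlat (B := R)
    (⟨q, inferInstance⟩ : PrimeSpectrum L)
  haveI := hP
  haveI : P.LiesOver q := ⟨(congrArg PrimeSpectrum.asIdeal hPq).symm⟩
  letI := Localization.AtPrime.algebraOfLiesOver q P
  haveI hsep : Algebra.IsSeparable q.ResidueField P.ResidueField := by
    have hfac : IndAlg.Fac (IndAlg.Etale.Et L) R :=
      IndAlg.fac_algEquiv (Hens.strictHenselizationEquiv R) Hens.fac_etLoc
    have hr : ∀ r : R, IsSeparable q.ResidueField (algebraMap R P.ResidueField r) := by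
      intro r
      obtain ⟨B, _, _, hB, v, w, hw⟩ := hfac (MvPolynomial PUnit.{u + 1} L) inferInstance
        (MvPolynomial.aeval fun _ => r)
      haveI : Algebra.Etale L B := hB
      let φ : TensorProduct L q.ResidueField B →ₐ[q.ResidueField] P.ResidueField :=
        Algebra.TensorProduct.lift (Algebra.ofId q.ResidueField P.ResidueField)
          ((IsScalarTower.toAlgHom L R P.ResidueField).comp w) fun _ _ => .all _ _
      have h := Hens.isSeparable_of_etale_field φ (TensorProduct.tmul L 1 (v (MvPolynomial.X PUnit.unit)))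
      have e : w (v (MvPolynomial.X PUnit.unit)) = r := by
        rw [← AlgHom.comp_apply, hw, MvPolynomial.aeval_X]
      simpa [φ, e] using h
    refine ⟨fun z => ?_⟩
    obtain ⟨a, b, -, rfl⟩ := IsFractionRing.div_surjective (R ⧸ P) z
    obtain ⟨a, rfl⟩ := Ideal.Quotient.mk_surjective a
    obtain ⟨b, rfl⟩ := Ideal.Quotient.mk_surjective b
    exact mem_separableClosure_iff.1 ((separableClosure q.ResidueField P.ResidueField).div_mem
      (mem_separableClosure_iff.2 (hr a)) (mem_separableClosure_iff.2 (hr b)))
  let ν' : q.ResidueField →+* Ω := Ideal.ResidueField.lift q ν le_rfl (fun x hx => isUnit_iff_ne_zero.2 hx)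
  letI : Algebra q.ResidueField Ω := ν'.toAlgebra
  let μ' : P.ResidueField →ₐ[q.ResidueField] Ω := IsSepClosed.lift
  refine ⟨μ'.toRingHom.comp (algebraMap R P.ResidueField), RingHom.ext fun x => ?_⟩
  simp only [RingHom.comp_apply]
  rw [← IsScalarTower.algebraMap_apply L R P.ResidueField,
    IsScalarTower.algebraMap_apply L q.ResidueField P.ResidueField]
  exact (μ'.commutes _).trans (Ideal.ResidueField.lift_algebraMap _ _ _ _ _)

end Groth.Agent.StrictLift
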